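import Groth.Agent.H06QFlat.Basic
import Groth.Agent.H17.QcImage
import Groth.Agent.H8Props.Generic

/-!
Topological consequences of quasi-flatness (EGA IV 2.3.7-2.3.12).
-/

set_option autoImplicit false
set_option linter.style.haveILetI false

universe u

open CategoryTheory CategoryTheory.Limits AlgebraicGeometry

namespace Groth.Agent.H06QFlat

variable {X Y Y' : Scheme.{u}}

/-- The image of a closed set under a quasi-compact morphism is dense in its specializations. -/
theorem exists_specializes_of_mem_closure_image (f : X ⟶ Y) [QuasiCompact f] {F : Set X}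
    (hF : IsClosed F) {y : Y} (hy : y ∈ closure (f '' F)) : ∃ x ∈ F, f x ⤳ y := by
  let I := Scheme.IdealSheafData.vanishingIdeal (⟨F, hF⟩ : TopologicalSpace.Closeds X)
  have hr : Set.range I.subschemeι = F := by
    rw [Scheme.IdealSheafData.range_subschemeι, Scheme.IdealSheafData.coe_support_vanishingIdeal]
    rfl
  have hr2 : Set.range (I.subschemeι ≫ f) = f '' F := by
    rw [← hr, ← Set.range_comp]; rfl
  obtain ⟨t, ht⟩ := H17.exists_specializes_of_mem_closure_range (I.subschemeι ≫ f) (hr2.symm ▸ hy)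
  exact ⟨I.subschemeι t, hr ▸ ⟨t, rfl⟩, ht⟩

theorem isQuotientMap (f : X ⟶ Y) (hg : GeneralizingMap f) [Surjective f] [QuasiCompact f] :
    Topology.IsQuotientMap f := by
  rw [Topology.isQuotientMap_iff_isClosed]
  refine ⟨f.surjective, fun Z => ⟨fun hZ => hZ.preimage f.continuous, fun hF => ?_⟩⟩
  refine isClosed_of_closure_subset fun y hy => ?_
  have hy' : y ∈ closure (f '' (f ⁻¹' Z)) := by rwa [Set.image_preimage_eq Z f.surjective]
  obtain ⟨x, hxF, hxy⟩ := exists_specializes_of_mem_closure_image f hF hy'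
  obtain ⟨x₀, rfl⟩ := f.surjective y
  obtain ⟨x₁, hx₁, hfx₁⟩ := hg hxy
  exact hx₁.mem_closed hF (show f x₁ ∈ Z from hfx₁ ▸ hxF)

theorem preimage_closure_range (f : X ⟶ Y) (hf : GeneralizingMap f) {W : Scheme.{u}} (g : W ⟶ Y)
    [QuasiCompact g] :
    f ⁻¹' closure (Set.range g) = closure (f ⁻¹' Set.range g) := by
  refine subset_antisymm (fun x hx => ?_) (f.continuous.closure_preimage_subset _)
  obtain ⟨t, ht⟩ := H17.exists_specializes_of_mem_closure_range g hx
  obtain ⟨x', hx', hfx'⟩ := hf ht
  exact closure_mono (Set.singleton_subset_iff.2 (show x' ∈ f ⁻¹' Set.range g from ⟨t, hfx'.symm⟩))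
    hx'.mem_closure

theorem preimage_closure_image (f : X ⟶ Y) (hf : GeneralizingMap f) [QuasiCompact f]
    {F : Set X} (hF : IsClosed F) (hsat : f ⁻¹' (f '' F) = F) :
    f ⁻¹' closure (f '' F) = F := by
  refine subset_antisymm (fun x hx => ?_) ((Set.subset_preimage_image f F).trans
    (Set.preimage_mono subset_closure))
  obtain ⟨z, hz, hzx⟩ := exists_specializes_of_mem_closure_image f hF hx
  obtain ⟨x', hx', hfx'⟩ := hf hzx
  exact hx'.mem_closed hF (hsat ▸ ⟨z, hz, hfx'.symm⟩)

theorem isDominant_pullback_snd (f : X ⟶ Y) (g : Y' ⟶ Y) [QuasiCompact f] [IsDominant f]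
    (hg : GeneralizingMap g) : IsDominant (pullback.snd f g) := by
  refine ⟨fun y' => ?_⟩
  obtain ⟨x, hx⟩ := H17.exists_specializes_of_mem_closure_range f (f.denseRange (g y'))
  obtain ⟨y₁, hy₁, hgy₁⟩ := hg hx
  obtain ⟨z, -, hz⟩ := Scheme.Pullback.exists_preimage_pullback (f := f) (g := g) x y₁ hgy₁.symm
  exact closure_mono (Set.singleton_subset_iff.2 (show y₁ ∈ Set.range (pullback.snd f g) from ⟨z, hz⟩))
    hy₁.mem_closure

/-- Over a fixed point of the base, a generization in `Y'` lifts to the fibre product. -/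
theorem exists_lift_fibre (f : X ⟶ Y) (g : Y' ⟶ Y) (z : ↥(pullback f g)) (w : Y')
    (hw : w ⤳ pullback.snd f g z) (hgw : g w = f (pullback.fst f g z)) :
    ∃ z₀, z₀ ⤳ z ∧ pullback.snd f g z₀ = w := by
  set x := pullback.fst f g z
  let E := g.fiber (f x)
  let ρ := Spec.map (f.residueFieldMap x)
  let q := pullback.snd ρ (g.fiberToSpecResidueField (f x))
  have : Flat ρ := by
    rw [HasRingHomProperty.Spec_iff (P := @Flat)]
    algebraize [(f.residueFieldMap x).hom]
    exact RingHom.flat_algebraMap_iff.2 inferInstance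
  have : Flat q := inferInstance
  let j : pullback ρ (g.fiberToSpecResidueField (f x)) ⟶ pullback f g :=
    pullback.lift (pullback.fst _ _ ≫ X.fromSpecResidueField x) (q ≫ g.fiberι (f x)) (by
      simp only [Category.assoc, ← Scheme.Hom.SpecMap_residueFieldMap_fromSpecResidueField,
        g.fiber_fac, q, ρ, ← pullback.condition_assoc])
  let k := (pullback f g).fromSpecResidueField z
  have hk : Spec.map ((pullback.fst f g).residueFieldMap z) ≫ X.fromSpecResidueField x
      = k ≫ pullback.fst f g :=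
    (pullback.fst f g).SpecMap_residueFieldMap_fromSpecResidueField z
  let b : Spec ((pullback f g).residueField z) ⟶ E :=
    pullback.lift (k ≫ pullback.snd f g) (Spec.map ((pullback.fst f g).residueFieldMap z) ≫ ρ) (by
      simp only [Category.assoc, ρ, Scheme.Hom.SpecMap_residueFieldMap_fromSpecResidueField,
        reassoc_of% hk, pullback.condition])
  let t := pullback.lift (Spec.map ((pullback.fst f g).residueFieldMap z)) b
    (f := ρ) (g := g.fiberToSpecResidueField (f x)) (pullback.lift_snd _ _ _).symm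
  have htj : t ≫ j = k := by
    apply pullback.hom_ext
    · simp only [t, j, Category.assoc, pullback.lift_fst, pullback.lift_fst_assoc, hk]
    · simp only [t, j, q, Category.assoc, pullback.lift_snd, pullback.lift_snd_assoc]
      exact pullback.lift_fst _ _ _
  let z' := t (IsLocalRing.closedPoint ((pullback f g).residueField z))
  have hz' : j z' = z := by
    rw [← Scheme.Hom.comp_apply, htj]
    exact Scheme.fromSpecResidueField_apply _ _
  have hy' : g.fiberι (f x) (q z') = pullback.snd f g z := by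
    have h0 : j ≫ pullback.snd f g = q ≫ g.fiberι (f x) := pullback.lift_snd _ _ _
    have h := congr($h0 z')
    rw [Scheme.Hom.comp_apply, Scheme.Hom.comp_apply, hz'] at h
    exact h.symm
  let w₁ : E := (g.fiberHomeo (f x)).symm ⟨w, hgw⟩
  have hw₁ : g.fiberι (f x) w₁ = w := g.fiberι_fiberHomeo_symm _ _
  have hsp : w₁ ⤳ q z' := by
    rw [← (g.fiberι (f x)).isEmbedding.toIsInducing.specializes_iff, hw₁, hy']; exact hw
  obtain ⟨z₁, hz₁, hqz₁⟩ := Flat.generalizingMap q hsp
  refine ⟨j z₁, hz' ▸ hz₁.map j.continuous, ?_⟩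
  rw [← Scheme.Hom.comp_apply, pullback.lift_snd, Scheme.Hom.comp_apply, hqz₁, hw₁]

theorem snd_mem_genericPoints (f : X ⟶ Y) (g : Y' ⟶ Y)
    (hg : GeneralizingMap (pullback.fst f g)) (hf : ∀ x ∈ genericPoints X, f x ∈ genericPoints Y)
    {z : ↥(pullback f g)} (hz : z ∈ genericPoints (pullback f g : Scheme.{u})) :
    pullback.snd f g z ∈ genericPoints Y' := by
  rw [H8Props.mem_genericPoints_iff] at hz ⊢
  intro w hw
  have hx : pullback.fst f g z ∈ genericPoints X := by
    rw [H8Props.mem_genericPoints_iff]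
    intro x₀ hx₀
    obtain ⟨z₀, hz₀, rfl⟩ := hg hx₀
    rw [hz z₀ hz₀]
  have hy := hf _ hx
  rw [H8Props.mem_genericPoints_iff] at hy
  have h1 : g w ⤳ f (pullback.fst f g z) := by
    have := hw.map g.continuous
    rwa [← Scheme.Hom.comp_apply, ← pullback.condition, Scheme.Hom.comp_apply] at this
  obtain ⟨z₀, hz₀, rfl⟩ := exists_lift_fibre f g z w hw (hy _ h1)
  rw [hz z₀ hz₀]

end Groth.Agent.H06QFlat
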