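import Mathlib

/-!
Going down along a base change of a ring map carrying a finite flat module with full support.
-/

set_option autoImplicit false
set_option linter.style.haveILetI false

universe u

open TensorProduct

namespace Groth.Agent.H06QFlat

theorem exists_prime_le_comap_eq {A A' B M : Type u} [CommRing A] [CommRing A'] [CommRing B]
    [Algebra A A'] [Algebra A B] [IsLocalRing A'] [AddCommGroup M] [Module A M] [Module A' M]
    [IsScalarTower A A' M] [Module.Finite A' M] [Module.Flat A M] [Nontrivial M]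
    (Q : Ideal (B ⊗[A] A')) [Q.IsPrime]
    (hQ : Q.comap (Algebra.TensorProduct.includeRight (R := A) (A := B) (B := A')).toRingHom
      = IsLocalRing.maximalIdeal A')
    (p : Ideal B) [p.IsPrime]
    (hp : p ≤ Q.comap (Algebra.TensorProduct.includeLeftRingHom : B →+* B ⊗[A] A')) :
    ∃ Q₀ : Ideal (B ⊗[A] A'), Q₀.IsPrime ∧ Q₀ ≤ Q ∧
      Q₀.comap (Algebra.TensorProduct.includeLeftRingHom : B →+* B ⊗[A] A') = p := by
  classical
  let i : B →+* B ⊗[A] A' := Algebra.TensorProduct.includeLeftRingHom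
  let S : Submonoid (B ⊗[A] A') :=
    (p.primeCompl.map i) ⊔ Q.primeCompl
  suffices hdis : Disjoint ((p.map i : Ideal (B ⊗[A] A')) : Set (B ⊗[A] A')) S by
    obtain ⟨Q₀, hQ₀, hle, hQ₀S⟩ := Ideal.exists_le_prime_disjoint _ S hdis
    refine ⟨Q₀, hQ₀, fun x hx => ?_, le_antisymm (fun b hb => ?_) ?_⟩
    · by_contra hxQ
      exact Set.disjoint_left.1 hQ₀S hx (Submonoid.mem_sup_right hxQ)
    · by_contra hbp
      exact Set.disjoint_left.1 hQ₀S hb (Submonoid.mem_sup_left ⟨b, hbp, rfl⟩)
    · exact Ideal.map_le_iff_le_comap.1 hle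
  rw [Set.disjoint_right]
  intro x hxS hxJ
  obtain ⟨_, ⟨b, hb, rfl⟩, s, hs, rfl⟩ := Submonoid.mem_sup.1 hxS
  -- the module `W = (B/p) ⊗ M`
  let e₁ : B →ₐ[A] Module.End A ((B ⧸ p) ⊗[A] M) := Algebra.lsmul A A ((B ⧸ p) ⊗[A] M)
  let e₂ : A' →ₐ[A] Module.End A ((B ⧸ p) ⊗[A] M) :=
    { toFun := fun a => LinearMap.lTensor (B ⧸ p) (Algebra.lsmul A A M a)
      map_one' := by rw [map_one]; exact LinearMap.lTensor_id _ _
      map_mul' := fun a c => by rw [map_mul]; exact LinearMap.lTensor_mul _ _ _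
      map_zero' := by rw [map_zero]; exact LinearMap.lTensor_zero _
      map_add' := fun a c => by rw [map_add]; exact LinearMap.lTensor_add _ _ _
      commutes' := fun r => TensorProduct.ext' fun c m => by
        simp [TensorProduct.tmul_smul] }
  let ρ : B ⊗[A] A' →ₐ[A] Module.End A ((B ⧸ p) ⊗[A] M) :=
    Algebra.TensorProduct.lift e₁ e₂ fun c a => TensorProduct.ext' fun d m => by
      simp [e₁, e₂, TensorProduct.smul_tmul']
  have hρi : ∀ c, ρ (i c) = e₁ c := fun c => by simp [ρ, i]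
  have hJ : p.map i ≤ RingHom.ker ρ.toRingHom := by
    rw [Ideal.map_le_iff_le_comap]
    intro c hc
    rw [Ideal.mem_comap, RingHom.mem_ker]
    show ρ (i c) = 0
    rw [hρi]
    refine TensorProduct.ext' fun d m => ?_
    have : c • d = 0 := by
      obtain ⟨d, rfl⟩ := Ideal.Quotient.mk_surjective d
      rw [Algebra.smul_def, Ideal.Quotient.algebraMap_eq, Ideal.Quotient.eq_zero_iff_mem.2 hc, zero_mul]
    simp [e₁, TensorProduct.smul_tmul', this]
  have hbinj : Function.Injective (ρ (i b)) := by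
    have hl : Function.Injective (Algebra.lsmul A A (B ⧸ p) b) := by
      intro c d hcd
      have hb0 : algebraMap B (B ⧸ p) b ≠ 0 := by
        rw [Ideal.Quotient.algebraMap_eq, Ne, Ideal.Quotient.eq_zero_iff_mem]; exact hb
      simp only [Algebra.lsmul_coe, Algebra.smul_def] at hcd
      exact mul_left_cancel₀ hb0 hcd
    have h2 := Module.Flat.rTensor_preserves_injective_linearMap (M := M) _ hl
    have h3 : ρ (i b) = LinearMap.rTensor M (Algebra.lsmul A A (B ⧸ p) b) := by
      rw [hρi]; exact TensorProduct.ext' fun d m => by simp [e₁, TensorProduct.smul_tmul']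
    rw [h3]; exact h2
  have hρs : ρ s = 0 := by
    refine LinearMap.ext fun w => hbinj ?_
    have h0 : ρ (i b * s) = 0 := RingHom.mem_ker.1 (hJ hxJ)
    rw [map_mul] at h0
    simpa using LinearMap.congr_fun h0 w
  -- map to a residue field
  let κ := Q.ResidueField
  let ψ : B ⊗[A] A' →+* κ := algebraMap _ _
  let ψr : A' →+* κ := ψ.comp (Algebra.TensorProduct.includeRight (R := A) (A := B) (B := A')).toRingHom
  have hψr : ∀ a ∈ IsLocalRing.maximalIdeal A', ψr a = 0 := fun a ha => by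
    rw [← hQ, Ideal.mem_comap] at ha
    exact Ideal.algebraMap_residueField_eq_zero.2 ha
  letI : Algebra A' κ := ψr.toAlgebra
  -- a nonzero functional on `M`
  obtain ⟨φ, m₀, hm₀⟩ : ∃ (φ : M →ₗ[A'] κ) (m₀ : M), φ m₀ ≠ 0 := by
    set m := IsLocalRing.maximalIdeal A'
    have hne : m • (⊤ : Submodule A' M) ≠ ⊤ := fun h =>
      top_ne_bot ((Submodule.eq_bot_of_le_smul_of_le_jacobson_bot m ⊤ Module.Finite.fg_top
        h.ge (IsLocalRing.maximalIdeal_le_jacobson _)))
    obtain ⟨v, hv⟩ : ∃ v : M ⧸ m • (⊤ : Submodule A' M), v ≠ 0 := by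
      have : Nontrivial (M ⧸ m • (⊤ : Submodule A' M)) :=
        Submodule.Quotient.nontrivial_iff.2 hne
      exact exists_ne _
    letI : Field (A' ⧸ m) := Ideal.Quotient.field m
    obtain ⟨χ, hχ⟩ := Module.Projective.exists_dual_ne_zero (A' ⧸ m) hv
    let j : A' ⧸ m →+* κ := Ideal.Quotient.lift m ψr hψr
    obtain ⟨m₀, rfl⟩ := Submodule.Quotient.mk_surjective _ v
    refine ⟨{ toFun := fun x => j (χ (Submodule.Quotient.mk x))
              map_add' := fun x y => by simp
              map_smul' := fun a x => ?_ }, m₀, fun h => hχ (j.injective (h.trans (map_zero j).symm))⟩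
    have h1 : (Submodule.Quotient.mk (a • x) : M ⧸ m • (⊤ : Submodule A' M))
        = Ideal.Quotient.mk m a • Submodule.Quotient.mk x := rfl
    rw [h1, map_smul, smul_eq_mul, map_mul]
    rfl
  let ψl : B ⧸ p →+* κ := Ideal.Quotient.lift p (ψ.comp i) fun c hc =>
    Ideal.algebraMap_residueField_eq_zero.2 (hp hc)
  let Φ : (B ⧸ p) ⊗[A] M →+ κ := TensorProduct.liftAddHom
    (AddMonoidHom.mk' (fun c => (AddMonoidHom.mulLeft (ψl c)).comp φ.toAddMonoidHom)
      (fun c d => by ext x; simp [add_mul]))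
    (fun r c x => by
      obtain ⟨c, rfl⟩ := Ideal.Quotient.mk_surjective c
      have hψ : ψ (i (algebraMap A B r)) = ψr (algebraMap A A' r) := by
        show ψ _ = ψ _
        congr 1
        show algebraMap A B r ⊗ₜ[A] (1 : A') = (1 : B) ⊗ₜ[A] algebraMap A A' r
        rw [Algebra.algebraMap_eq_smul_one, Algebra.algebraMap_eq_smul_one, TensorProduct.smul_tmul]
      have h1 : φ (r • x) = ψr (algebraMap A A' r) * φ x := by
        rw [← algebraMap_smul A' r x, map_smul]; rfl
      have h2 : ψl (r • Ideal.Quotient.mk p c) = ψ (i (algebraMap A B r)) * ψl (Ideal.Quotient.mk p c) := by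
        rw [← algebraMap_smul B r (Ideal.Quotient.mk p c), Algebra.smul_def, map_mul]; rfl
      show ψl (r • Ideal.Quotient.mk p c) * φ x = ψl (Ideal.Quotient.mk p c) * φ (r • x)
      rw [h1, h2, hψ]; ring)
  have hΦ : ∀ t w, Φ (ρ t w) = ψ t * Φ w := by
    intro t w
    induction t using TensorProduct.induction_on with
    | zero => simp
    | add t₁ t₂ h₁ h₂ =>
      rw [map_add, map_add, LinearMap.add_apply, map_add, h₁, h₂, add_mul]
    | tmul c a =>
      induction w using TensorProduct.induction_on with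
      | zero => simp
      | add w₁ w₂ h₁ h₂ => rw [map_add, map_add, map_add, h₁, h₂, mul_add]
      | tmul d x =>
        obtain ⟨d, rfl⟩ := Ideal.Quotient.mk_surjective d
        have h : ρ (c ⊗ₜ a) (Ideal.Quotient.mk p d ⊗ₜ x) = Ideal.Quotient.mk p (c * d) ⊗ₜ (a • x) := by
          simp [ρ, e₁, e₂, TensorProduct.smul_tmul', Algebra.smul_def]
        have hsplit : c ⊗ₜ[A] a = i c * ((1 : B) ⊗ₜ[A] a) := by simp [i]
        rw [h]
        show ψl (Ideal.Quotient.mk p (c * d)) * φ (a • x) = ψ (c ⊗ₜ a) * (ψl (Ideal.Quotient.mk p d) * φ x)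
        rw [hsplit, map_mul ψ, φ.map_smul]
        show ψ (i (c * d)) * (ψr a * φ x) = ψ (i c) * ψr a * (ψ (i d) * φ x)
        rw [map_mul, map_mul]; ring
  have h1 := hΦ s ((1 : B ⧸ p) ⊗ₜ m₀)
  rw [hρs, LinearMap.zero_apply, map_zero] at h1
  have h2 : Φ ((1 : B ⧸ p) ⊗ₜ m₀) = φ m₀ := by
    show ψl 1 * φ m₀ = _
    rw [map_one, one_mul]
  rw [h2] at h1
  rcases mul_eq_zero.1 h1.symm with h | h
  · exact hs (Ideal.algebraMap_residueField_eq_zero.1 h)
  · exact hm₀ h

end Groth.Agent.H06QFlat
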