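import Groth.Prelude.Def_FDesc
import Groth.Agent.H06QFlat.Ring
import Groth.Agent.H06Mod.StalkFinite
import Groth.Agent.H17.QcImage

/-!
Quasi-flat morphisms are universally generalizing (EGA IV 2.3.4).
-/

set_option autoImplicit false
set_option linter.style.haveILetI false

universe u

open CategoryTheory CategoryTheory.Limits AlgebraicGeometry TensorProduct

namespace Groth.Agent.H06QFlat

variable {X Y Y' : Scheme.{u}}

/-- The local step: a square of spectra of local rings over `Y`. -/
theorem exists_lift_aux (f : X ⟶ Y) (g : Y' ⟶ Y) {A B C : CommRingCat.{u}} [IsLocalRing B]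
    [IsLocalRing C] (M : Type u) [AddCommGroup M] [Module C M] [Module.Finite C M] [Nontrivial M]
    (a : A ⟶ B) (b : A ⟶ C) (hflat : letI := Module.compHom M b.hom; Module.Flat A M)
    (iA : Spec A ⟶ Y) [Mono iA] (iB : Spec B ⟶ X) (iC : Spec C ⟶ Y')
    (ea : Spec.map a ≫ iA = iB ≫ f) (eb : Spec.map b ≫ iA = iC ≫ g)
    (hB : Function.Injective iB) (hC : Function.Injective iC) {z : ↥(pullback f g)} {w : X}
    (hz₁ : pullback.fst f g z = iB (IsLocalRing.closedPoint B))
    (hz₂ : pullback.snd f g z = iC (IsLocalRing.closedPoint C)) (p : ↥(Spec B)) (hp : iB p = w) :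
    ∃ v, v ⤳ z ∧ pullback.fst f g v = w := by
  letI := a.hom.toAlgebra
  letI := b.hom.toAlgebra
  letI := Module.compHom M b.hom
  have : IsScalarTower A C M := IsScalarTower.of_algebraMap_smul fun _ _ => rfl
  have : Module.Flat A M := hflat
  let ι : Spec (.of (B ⊗[A] C)) ⟶ pullback f g :=
    (pullbackSpecIso A B C).inv ≫ pullback.map (Spec.map a) (Spec.map b) f g iB iC iA ea eb
  have hι₁ : ι ≫ pullback.fst f g =
      Spec.map (CommRingCat.ofHom Algebra.TensorProduct.includeLeftRingHom) ≫ iB := by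
    simp only [ι, Category.assoc, pullback.lift_fst]
    exact pullbackSpecIso_inv_fst_assoc A B C _
  have hι₂ : ι ≫ pullback.snd f g =
      Spec.map (CommRingCat.ofHom (Algebra.TensorProduct.includeRight (R := A)
        (A := B) (B := C)).toRingHom) ≫ iC := by
    simp only [ι, Category.assoc, pullback.lift_snd]
    exact pullbackSpecIso_inv_snd_assoc A B C _
  have hz : z ∈ Set.range ι := by
    have hr : z ∈ Set.range (pullback.map (Spec.map a) (Spec.map b) f g iB iC iA ea eb) := by
      rw [Scheme.Pullback.range_map]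
      exact ⟨⟨_, hz₁.symm⟩, ⟨_, hz₂.symm⟩⟩
    obtain ⟨t, ht⟩ := hr
    refine ⟨(pullbackSpecIso A B C).hom t, Eq.trans ?_ ht⟩
    exact congr($((pullbackSpecIso A B C).hom_inv_id_assoc
      (pullback.map (Spec.map a) (Spec.map b) f g iB iC iA ea eb)) t)
  obtain ⟨Q, hQz⟩ := hz
  have hQ₁ : Spec.map (CommRingCat.ofHom Algebra.TensorProduct.includeLeftRingHom) Q
      = IsLocalRing.closedPoint B := hB <| by
    have := congr($hι₁ Q)
    simp only [Scheme.Hom.comp_apply, hQz, hz₁] at this
    exact this.symm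
  have hQ₂ : Spec.map (CommRingCat.ofHom (Algebra.TensorProduct.includeRight (R := A)
        (A := B) (B := C)).toRingHom) Q = IsLocalRing.closedPoint C := hC <| by
    have := congr($hι₂ Q)
    simp only [Scheme.Hom.comp_apply, hQz, hz₂] at this
    exact this.symm
  obtain ⟨Q₀, hQ₀, hle, hQ₀p⟩ := exists_prime_le_comap_eq (M := M) Q.asIdeal
    (congrArg PrimeSpectrum.asIdeal hQ₂) p.asIdeal
    ((IsLocalRing.le_maximalIdeal p.isPrime.ne_top).trans (congrArg PrimeSpectrum.asIdeal hQ₁).ge)
  refine ⟨ι ⟨Q₀, hQ₀⟩, ?_, ?_⟩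
  · rw [← hQz]
    exact ((PrimeSpectrum.le_iff_specializes (⟨Q₀, hQ₀⟩ : PrimeSpectrum (B ⊗[A] C)) Q).1 hle).map
      ι.continuous
  · have h := congr($hι₁ (⟨Q₀, hQ₀⟩ : PrimeSpectrum (B ⊗[A] C)))
    simp only [Scheme.Hom.comp_apply] at h
    rw [h, ← hp]
    congr 1
    exact PrimeSpectrum.ext hQ₀p

/-- Every base change of a quasi-flat morphism is generalizing. -/
theorem generalizingMap_pullback_fst (f : X ⟶ Y) (g : Y' ⟶ Y) (hg : FDesc.IsQuasiFlat g) :
    GeneralizingMap (pullback.fst f g) := by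
  obtain ⟨F, hF, hflat, hne⟩ := hg
  intro z w hw
  let y' := pullback.snd f g z
  let x := pullback.fst f g z
  have hxy : f x = g y' := congr($(pullback.condition (f := f) (g := g)) z)
  have := H06Mod.finite_stalk F hF.2 y'
  have := hne y'
  obtain ⟨p, hp⟩ : w ∈ Set.range (X.fromSpecStalk x) := by
    rw [Scheme.range_fromSpecStalk]; exact hw
  exact exists_lift_aux f g (F.presheaf.stalk y')
    (Y.presheaf.stalkSpecializes (specializes_of_eq hxy) ≫ f.stalkMap x) (g.stalkMap y') (hflat y')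
    (Y.fromSpecStalk (g y')) (X.fromSpecStalk x) (Y'.fromSpecStalk y')
    (by simp) (Scheme.SpecMap_stalkMap_fromSpecStalk g)
    (X.fromSpecStalk x).isEmbedding.injective (Y'.fromSpecStalk y').isEmbedding.injective
    Scheme.fromSpecStalk_closedPoint.symm Scheme.fromSpecStalk_closedPoint.symm p hp

theorem generalizingMap_pullback_snd (f : X ⟶ Y) (g : Y' ⟶ Y) (hg : FDesc.IsQuasiFlat g) :
    GeneralizingMap (pullback.snd g f) := by
  intro z w hw
  have h := generalizingMap_pullback_fst f g hg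
  have e : pullback.snd g f = (pullbackSymmetry g f).hom ≫ pullback.fst f g :=
    (pullbackSymmetry_hom_comp_fst g f).symm
  obtain ⟨v, hv, hvw⟩ := h (a := (pullbackSymmetry g f).hom z) (b := w) (by
    rw [← Scheme.Hom.comp_apply, ← e]; exact hw)
  refine ⟨(pullbackSymmetry g f).inv v, ?_, ?_⟩
  · have := hv.map (pullbackSymmetry g f).inv.continuous
    simpa only [← Scheme.Hom.comp_apply, Iso.hom_inv_id, Scheme.Hom.id_base, TopCat.id_app] using this
  · rw [e, ← Scheme.Hom.comp_apply, Iso.inv_hom_id_assoc]; exact hvw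

theorem generalizingMap (g : Y' ⟶ Y) (hg : FDesc.IsQuasiFlat g) : GeneralizingMap g := by
  intro y' w hw
  have h := generalizingMap_pullback_fst (𝟙 Y) g hg
  have e : pullback.fst (𝟙 Y) g = pullback.snd (𝟙 Y) g ≫ g := by
    rw [← Category.comp_id (pullback.fst (𝟙 Y) g)]; exact pullback.condition
  obtain ⟨v, hv, hvw⟩ := h (a := inv (pullback.snd (𝟙 Y) g) y') (b := w) (by
    rw [e, ← Scheme.Hom.comp_apply, IsIso.inv_hom_id_assoc]; exact hw)
  refine ⟨pullback.snd (𝟙 Y) g v, ?_, ?_⟩
  · have := hv.map (pullback.snd (𝟙 Y) g).continuous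
    simpa only [← Scheme.Hom.comp_apply, IsIso.inv_hom_id, Scheme.Hom.id_base, TopCat.id_app] using this
  · rw [← Scheme.Hom.comp_apply, ← e]; exact hvw

end Groth.Agent.H06QFlat
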